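import Cfsg.Agent.Lib.SymSylow.Alternating
import Cfsg.Agent.Lib.SymSylow.Crit
import Cfsg.Agent.Lib.Alternating.ThreeCycle

/-! Overgroups of Sylow 2-subgroups of symmetric and alternating groups. -/

set_option autoImplicit false

namespace Cfsg.Agent.Lib.AltSylowMax

open Equiv Equiv.Perm
open scoped Pointwise
open Cfsg.Agent.Lib.Alternating
open Cfsg.Agent.Lib.SymSylow.Basic Cfsg.Agent.Lib.SymSylow.Alternating

/-! ### Generalities -/

theorem unique_map {G : Type*} [Group G] (e : G ≃* G) (S : Subgroup G)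
    (h : ∃! M : Subgroup G, IsCoatom M ∧ S ≤ M) :
    ∃! M : Subgroup G, IsCoatom M ∧ S.map e.toMonoidHom ≤ M := by
  obtain ⟨M, ⟨hM, hS⟩, hu⟩ := h
  refine ⟨M.map e.toMonoidHom, ⟨?_, Subgroup.map_mono hS⟩, fun N hN => ?_⟩
  · exact (e.mapSubgroup.isCoatom_iff M).2 hM
  · obtain ⟨N0, rfl⟩ : ∃ N0 : Subgroup G, N0.map e.toMonoidHom = N :=
      ⟨e.mapSubgroup.symm N, e.mapSubgroup.apply_symm_apply N⟩
    congr 1
    exact hu N0 ⟨(e.mapSubgroup.isCoatom_iff N0).1 hN.1,
      (Subgroup.map_le_map_iff_of_injective e.injective).1 hN.2⟩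

theorem unique_sylow_iff {G : Type*} [Group G] [Finite G] {p : ℕ} [Fact p.Prime] (P Q : Sylow p G) :
    (∃! M : Subgroup G, IsCoatom M ∧ (P : Subgroup G) ≤ M) ↔
      (∃! M : Subgroup G, IsCoatom M ∧ (Q : Subgroup G) ≤ M) := by
  obtain ⟨g, rfl⟩ := MulAction.exists_smul_eq G P Q
  constructor
  · intro h
    exact unique_map (MulAut.conj g) _ h
  · intro h
    have := unique_map (MulAut.conj g⁻¹) _ h
    rw [Sylow.coe_subgroup_smul] at this
    have e : ∀ S : Subgroup G, Subgroup.map (MulAut.conj g⁻¹).toMonoidHom (MulAut.conj g • S) = S := by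
      intro S
      ext x
      constructor
      · rintro ⟨y, ⟨z, hz, rfl⟩, rfl⟩
        simpa [mul_assoc] using hz
      · intro hx
        exact ⟨g * x * g⁻¹, ⟨x, hx, rfl⟩, by simp [mul_assoc]⟩
    rwa [e] at this

theorem not_unique_of_sup {G : Type*} [Group G] [Finite G] {S H K : Subgroup G} (hH : H ≠ ⊤) (hK : K ≠ ⊤)
    (hSH : S ≤ H) (hSK : S ≤ K) (hs : H ⊔ K = ⊤) : ¬ ∃! M : Subgroup G, IsCoatom M ∧ S ≤ M := by
  rintro ⟨M, ⟨hM, -⟩, hu⟩
  obtain ⟨A, hA, hHA⟩ := (eq_top_or_exists_le_coatom H).resolve_left hH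
  obtain ⟨B, hB, hKB⟩ := (eq_top_or_exists_le_coatom K).resolve_left hK
  have h1 := hu A ⟨hA, hSH.trans hHA⟩
  have h2 := hu B ⟨hB, hSK.trans hKB⟩
  subst h1; subst h2
  exact hM.1 (top_le_iff.1 (hs ▸ sup_le hHA hKB))

theorem unique_of_forall {G : Type*} [Group G] [Finite G] {S H : Subgroup G} (hS : S ≠ ⊤) (hH : H ≠ ⊤)
    (h : ∀ M : Subgroup G, IsCoatom M → S ≤ M → M ≤ H) : ∃! M : Subgroup G, IsCoatom M ∧ S ≤ M := by
  obtain ⟨M, hM, hSM⟩ := (eq_top_or_exists_le_coatom S).resolve_left hS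
  refine ⟨M, ⟨hM, hSM⟩, fun N hN => ?_⟩
  have h1 : M = H := (hM.le_iff.1 (h M hM hSM)).resolve_left hH |>.symm
  have h2 : N = H := (hN.1.le_iff.1 (h N hN.1 hN.2)).resolve_left hH |>.symm
  rw [h1, h2]

/-! ### Subgroups preserving a partition -/

variable {n : ℕ}

/-- The permutations preserving the fibres of `f` as a partition. -/
def pres (f : Fin n → ℕ) : Subgroup (Perm (Fin n)) where
  carrier := {σ | ∀ i j, f i = f j ↔ f (σ i) = f (σ j)}
  one_mem' _ _ := Iff.rfl
  mul_mem' {a b} ha hb i j := (hb i j).trans (ha (b i) (b j))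
  inv_mem' {a} ha i j := by simpa using (ha (a⁻¹ i) (a⁻¹ j)).symm

theorem mem_pres {f : Fin n → ℕ} {σ : Perm (Fin n)} :
    σ ∈ pres f ↔ ∀ i j, f i = f j ↔ f (σ i) = f (σ j) := Iff.rfl

theorem conj_tri (e : Perm (Fin n)) (a b c : Fin n) :
    e * tri a b c * e⁻¹ = tri (e a) (e b) (e c) := by
  unfold tri
  rw [swap_apply_apply, swap_apply_apply]
  group

theorem sign_tri {a b c : Fin n} (hab : a ≠ b) (hac : a ≠ c) (hbc : b ≠ c) :
    Perm.sign (tri a b c) = 1 := mem_alternatingGroup.1 (tri_mem_alt hab hac hbc)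

theorem tri_mem_pres {f : Fin n → ℕ} {a b c : Fin n} (hab : a ≠ b) (hac : a ≠ c) (hbc : b ≠ c)
    (h1 : f a = f b) (h2 : f a = f c) : tri a b c ∈ pres f := by
  have key : ∀ i, f (tri a b c i) = f i := by
    intro i
    rcases eq_or_ne i a with rfl | ha
    · rw [tri_apply_left hab hbc, h1]
    rcases eq_or_ne i b with rfl | hb
    · rw [tri_apply_mid, ← h2, h1]
    rcases eq_or_ne i c with rfl | hc
    · rw [tri_apply_right hac hbc, h2]
    rw [tri_apply_of_ne ha hb hc]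
  exact mem_pres.2 fun i j => by rw [key, key]

theorem swap_mem_pres {f : Fin n → ℕ} {a b : Fin n} (h : f a = f b) : swap a b ∈ pres f := by
  have key : ∀ i, f (swap a b i) = f i := by
    intro i
    rw [swap_apply_def]
    split_ifs with h1 h2
    · rw [h1, h]
    · rw [h2, h]
    · rfl
  exact mem_pres.2 fun i j => by rw [key, key]

theorem pres_proper {f : Fin n → ℕ} {a b c : Fin n} (hab : a ≠ b) (h1 : f a = f b) (h2 : f a ≠ f c) :
    tri a b c ∉ pres f := by
  intro h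
  have hbc : b ≠ c := fun e => h2 (by rw [← e, h1])
  have := (mem_pres.1 h a b).1 h1
  rw [tri_apply_left hab hbc, tri_apply_mid, ← h1] at this
  exact h2 this

theorem dyadic_le_pres_div (k : ℕ) : dyadic n ≤ pres (fun i : Fin n => i.val / 2 ^ k) := by
  intro σ hσ
  refine mem_pres.2 fun i j => ⟨fun e => Cfsg.Agent.Lib.SymSylow.Crit.crit_iff.1 hσ k i j e, fun e => ?_⟩
  simpa using Cfsg.Agent.Lib.SymSylow.Crit.crit_iff.1 (inv_mem hσ) k (σ i) (σ j) e

theorem dyadic_le_pres_full (k : ℕ) :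
    dyadic n ≤ pres (fun i : Fin n => if i.val / 2 ^ k < n / 2 ^ k then 0 else 1) := by
  intro σ hσ
  refine mem_pres.2 fun i j => ?_
  simp only [Cfsg.Agent.Lib.SymSylow.Crit.full_iff hσ k]

/-- Two overgroups generating, even degree. -/
theorem alt_le_of_even (hn : n % 2 = 0) {m : ℕ} (hm : m % 2 = 0) (hm4 : 4 ≤ m) (hmn : m ≤ n)
    (f : Fin n → ℕ) (hf : ∀ i j : Fin n, i.val < m → j.val < m → f i = f j)
    (J : Subgroup (Perm (Fin n)))
    (h1 : ∀ σ ∈ pres f, Perm.sign σ = 1 → σ ∈ J)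
    (h2 : ∀ σ ∈ pres (fun i : Fin n => i.val / 2 ^ 1), Perm.sign σ = 1 → σ ∈ J) :
    alternatingGroup (Fin n) ≤ J := by
  let p2 : Fin n := ⟨2, by omega⟩
  let p3 : Fin n := ⟨3, by omega⟩
  have h23 : p2 ≠ p3 := by simp [p2, p3]
  refine (alt_le_closure_tri h23).trans ((Subgroup.closure_le J).2 ?_)
  rintro _ ⟨x, hx2, hx3, rfl⟩
  have base : ∀ y : Fin n, y.val < m → y ≠ p2 → y ≠ p3 → tri p2 p3 y ∈ J := by
    intro y hy a b
    exact h1 _ (tri_mem_pres h23 a.symm b.symm (hf _ _ (by simp [p2]; omega) (by simp [p3]; omega))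
      (hf _ _ (by simp [p2]; omega) hy)) (sign_tri h23 a.symm b.symm)
  by_cases hx : x.val < m
  · exact base x hx hx2 hx3
  let x' : Fin n := ⟨if x.val % 2 = 0 then x.val + 1 else x.val - 1, by
    have := x.isLt; split_ifs <;> omega⟩
  let p0 : Fin n := ⟨0, by omega⟩
  let p1 : Fin n := ⟨1, by omega⟩
  set e := swap p0 x * swap p1 x' with he
  have hev : ∀ i : Fin n, (e i).val = if i.val = 0 then x.val else if i.val = 1 then x'.val else
      if i.val = x.val then 0 else if i.val = x'.val then 1 else i.val := by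
    intro i
    have hv : x'.val = if x.val % 2 = 0 then x.val + 1 else x.val - 1 := rfl
    simp only [he, Perm.mul_apply, swap_apply_def, Fin.ext_iff, p0, p1, apply_ite Fin.val]
    split_ifs <;> split_ifs at hv <;> first | contradiction | omega
  have heJ : e ∈ J := by
    refine h2 e (mem_pres.2 fun i j => ?_) ?_
    · have hv : x'.val = if x.val % 2 = 0 then x.val + 1 else x.val - 1 := rfl
      simp only [pow_one, hev]
      split_ifs <;> split_ifs at hv <;> omega
    · rw [he, map_mul, Perm.sign_swap, Perm.sign_swap]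
      · simp
      · intro h
        have := congrArg Fin.val h
        simp only [p1, x'] at this
        split_ifs at this <;> omega
      · intro h; rw [← h] at hx; simp [p0] at hx; omega
  have e2 : e p2 = p2 := Fin.ext (by
    have hv : x'.val = if x.val % 2 = 0 then x.val + 1 else x.val - 1 := rfl
    rw [hev]; show _ = (2 : ℕ); rw [show p2.val = 2 from rfl]; split_ifs at hv ⊢ <;> first | contradiction | omega)
  have e3 : e p3 = p3 := Fin.ext (by
    have hv : x'.val = if x.val % 2 = 0 then x.val + 1 else x.val - 1 := rfl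
    rw [hev]; show _ = (3 : ℕ); rw [show p3.val = 3 from rfl]; split_ifs at hv ⊢ <;> first | contradiction | omega)
  have e0 : e p0 = x := Fin.ext (by rw [hev]; simp [p0])
  rw [← e2, ← e3, ← e0, ← conj_tri]
  exact mul_mem (mul_mem heJ (base p0 (by simp [p0]; omega) (by simp [p0, p2]) (by simp [p0, p3])))
    (inv_mem heJ)

/-- Two overgroups generating, odd degree. -/
theorem alt_le_of_odd (hn7 : 7 ≤ n) {m : ℕ} (hm3 : m + 3 ≤ n)
    (f g : Fin n → ℕ) (hf : ∀ i j : Fin n, i.val + 1 < n → j.val + 1 < n → f i = f j)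
    (hg : ∀ i j : Fin n, m ≤ i.val → m ≤ j.val → g i = g j)
    (J : Subgroup (Perm (Fin n)))
    (h1 : ∀ σ ∈ pres f, Perm.sign σ = 1 → σ ∈ J)
    (h2 : ∀ σ ∈ pres g, Perm.sign σ = 1 → σ ∈ J) :
    alternatingGroup (Fin n) ≤ J := by
  let p : Fin n := ⟨n - 3, by omega⟩
  let q : Fin n := ⟨n - 2, by omega⟩
  have hpq : p ≠ q := by simp [p, q]; omega
  refine (alt_le_closure_tri hpq).trans ((Subgroup.closure_le J).2 ?_)
  rintro _ ⟨x, hxp, hxq, rfl⟩
  by_cases hx : x.val + 1 < n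
  · exact h1 _ (tri_mem_pres hpq hxp.symm hxq.symm (hf _ _ (by simp [p]; omega) (by simp [q]; omega))
      (hf _ _ (by simp [p]; omega) hx)) (sign_tri hpq hxp.symm hxq.symm)
  · exact h2 _ (tri_mem_pres hpq hxp.symm hxq.symm (hg _ _ (by simp [p]; omega) (by simp [q]; omega))
      (hg _ _ (by simp [p]; omega) (by omega))) (sign_tri hpq hxp.symm hxq.symm)

theorem eq_top_of_alt_le {J : Subgroup (Perm (Fin n))} (h : alternatingGroup (Fin n) ≤ J)
    {a b : Fin n} (hab : a ≠ b) (hs : swap a b ∈ J) : J = ⊤ := by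
  refine eq_top_iff.2 fun σ _ => ?_
  rcases Int.units_eq_one_or (Perm.sign σ) with hσ | hσ
  · exact h (mem_alternatingGroup.2 hσ)
  · have : σ * swap a b ∈ J := h (mem_alternatingGroup.2 (by
      rw [map_mul, hσ, Perm.sign_swap hab, Int.units_mul_self]))
    simpa using mul_mem this hs

/-- Two proper overgroups of the dyadic Sylow subgroup which together generate everything. -/
theorem exists_generating (hn : 7 ≤ n) (hno : ¬ ∃ k, 2 ≤ k ∧ n = 2 ^ k + 1) :
    ∃ f g : Fin n → ℕ, dyadic n ≤ pres f ∧ dyadic n ≤ pres g ∧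
      (∃ a b c : Fin n, a ≠ b ∧ f a = f b ∧ f a ≠ f c) ∧
      (∃ a b c : Fin n, a ≠ b ∧ g a = g b ∧ g a ≠ g c) ∧
      (∀ J : Subgroup (Perm (Fin n)), (∀ σ ∈ pres f, Perm.sign σ = 1 → σ ∈ J) →
        (∀ σ ∈ pres g, Perm.sign σ = 1 → σ ∈ J) → alternatingGroup (Fin n) ≤ J) ∧
      ∃ a b : Fin n, a ≠ b ∧ swap a b ∈ pres f := by
  set a := Nat.log 2 n with ha
  have h1 : 2 ^ a ≤ n := Nat.pow_log_le_self 2 (by omega)
  have h2 : n < 2 ^ (a + 1) := Nat.lt_pow_succ_log_self (by norm_num) n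
  have ha2 : 2 ≤ a := by
    by_contra h
    have : 2 ^ (a + 1) ≤ 2 ^ 2 := Nat.pow_le_pow_right (by norm_num) (by omega)
    omega
  obtain ⟨b, hb⟩ : ∃ b, a = b + 2 := ⟨a - 2, by omega⟩
  have hb1 : 1 ≤ 2 ^ b := Nat.one_le_two_pow
  have e1 : 2 ^ a = 4 * 2 ^ b := by rw [hb, pow_add]; ring
  have e2 : 2 ^ (a + 1) = 8 * 2 ^ b := by rw [pow_succ, e1]; ring
  have ediv : n / 2 ^ a = 1 := Nat.div_eq_of_lt_le (by omega) (by omega)
  rcases Nat.mod_two_eq_zero_or_one n with hev | hodd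
  · by_cases hpow : n = 2 ^ a
    · -- halves
      have e3 : 2 ^ (b + 1) = 2 * 2 ^ b := by rw [pow_succ]; ring
      have hb2 : 2 ≤ 2 ^ b := by omega
      refine ⟨fun i => i.val / 2 ^ 1, fun i => i.val / 2 ^ (b + 1), dyadic_le_pres_div 1,
        dyadic_le_pres_div (b + 1), ⟨⟨0, by omega⟩, ⟨1, by omega⟩, ⟨2, by omega⟩, by simp, by simp, by simp⟩,
        ⟨⟨0, by omega⟩, ⟨1, by omega⟩, ⟨2 ^ (b + 1), by omega⟩, by simp, ?_, ?_⟩, ?_,
        ⟨⟨0, by omega⟩, ⟨1, by omega⟩, by simp, ?_⟩⟩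
      · show (0 : ℕ) / 2 ^ (b + 1) = 1 / 2 ^ (b + 1)
        rw [Nat.zero_div, Nat.div_eq_of_lt (by omega)]
      · show (0 : ℕ) / 2 ^ (b + 1) ≠ 2 ^ (b + 1) / 2 ^ (b + 1)
        rw [Nat.zero_div, Nat.div_self (by omega)]; omega
      · intro J hf hg
        refine alt_le_of_even hev (m := 2 ^ (b + 1)) (by omega) (by omega) (by omega) _ ?_ J hg hf
        intro i j hi hj
        simp [Nat.div_eq_of_lt hi, Nat.div_eq_of_lt hj]
      · exact swap_mem_pres (by simp)
    · -- a block of size 2 ^ a and the pairs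
      have hlt : 2 ^ a + 2 ≤ n := by omega
      refine ⟨fun i => i.val / 2 ^ 1, fun i => if i.val / 2 ^ a < n / 2 ^ a then 0 else 1,
        dyadic_le_pres_div 1, dyadic_le_pres_full a,
        ⟨⟨0, by omega⟩, ⟨1, by omega⟩, ⟨2, by omega⟩, by simp, by simp, by simp⟩,
        ⟨⟨0, by omega⟩, ⟨1, by omega⟩, ⟨2 ^ a, by omega⟩, by simp, ?_, ?_⟩, ?_,
        ⟨⟨0, by omega⟩, ⟨1, by omega⟩, by simp, ?_⟩⟩
      · simp only [ediv]
        rw [if_pos (by simp), if_pos (by rw [Nat.div_eq_of_lt (by omega)]; omega)]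
      · simp only [ediv]
        rw [if_pos (by simp), if_neg (by rw [Nat.div_self (by omega)]; omega)]
        omega
      · intro J hf hg
        refine alt_le_of_even hev (m := 2 ^ a) (by omega) (by omega) h1 _ ?_ J hg hf
        intro i j hi hj
        simp only [ediv, Nat.div_eq_of_lt hi, Nat.div_eq_of_lt hj]
      · exact swap_mem_pres (by simp)
  · have hlt : 2 ^ a + 3 ≤ n := by
      by_contra h
      exact hno ⟨a, ha2, by omega⟩
    refine ⟨fun i => if i.val / 2 ^ 1 < n / 2 ^ 1 then 0 else 1,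
      fun i => if i.val / 2 ^ a < n / 2 ^ a then 0 else 1,
      dyadic_le_pres_full 1, dyadic_le_pres_full a,
      ⟨⟨0, by omega⟩, ⟨1, by omega⟩, ⟨n - 1, by omega⟩, by simp, ?_, ?_⟩,
      ⟨⟨0, by omega⟩, ⟨1, by omega⟩, ⟨2 ^ a, by omega⟩, by simp, ?_, ?_⟩, ?_,
      ⟨⟨0, by omega⟩, ⟨1, by omega⟩, by simp, ?_⟩⟩
    · simp only [pow_one]
    · simp only [pow_one]; rw [if_pos (by omega), if_neg (by omega)]; omega
    · simp only [ediv]
      rw [if_pos (by simp), if_pos (by rw [Nat.div_eq_of_lt (by omega)]; omega)]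
    · simp only [ediv]
      rw [if_pos (by simp), if_neg (by rw [Nat.div_self (by omega)]; omega)]
      omega
    · intro J hf hg
      refine alt_le_of_odd hn (m := 2 ^ a) hlt _ _ ?_ ?_ J hf hg
      · intro i j hi hj
        simp only [pow_one]
        rw [if_pos (by omega), if_pos (by omega)]
      · intro i j hi hj
        simp only [ediv]
        rw [if_neg (by rw [Nat.lt_one_iff, Nat.div_eq_zero_iff]; omega),
          if_neg (by rw [Nat.lt_one_iff, Nat.div_eq_zero_iff]; omega)]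
    · exact swap_mem_pres (by simp only [pow_one])

end Cfsg.Agent.Lib.AltSylowMax
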