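import Cfsg.Agent.Lib.AltSylowMax.Basic

/-! For `n = 2^k + 1`, an overgroup of the even dyadic subgroup moving the odd point contains `A_n`. -/

set_option autoImplicit false

namespace Cfsg.Agent.Lib.AltSylowMax

open Equiv Equiv.Perm
open Cfsg.Agent.Lib.SymSylow.Basic

variable {n : ℕ}

theorem doubleSwap_sq_isThreeCycle (u v w x y c d : Fin n)
    (h : [u, v, w, x, y, c, d].Nodup) :
    (((swap u v * swap x y) * (swap u w * swap c d)) * ((swap u v * swap x y) * (swap u w * swap c d))).IsThreeCycle := by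
  simp only [List.nodup_cons, List.mem_cons, List.not_mem_nil, not_or, List.nodup_nil, and_true,
    or_false] at h
  obtain ⟨⟨uv, uw, ux, uy, uc, ud⟩, ⟨vw, vx, vy, vc, vd⟩, ⟨wx, wy, wc, wd⟩, ⟨xy, xc, xd⟩, ⟨yc, yd⟩, cd, -⟩ := h
  have e : ((swap u v * swap x y) * (swap u w * swap c d)) * ((swap u v * swap x y) * (swap u w * swap c d)) =
      swap u w * swap u v := by
    apply Equiv.ext
    intro i
    simp only [Perm.mul_apply]
    by_cases h1 : i = u
    · subst h1; simp [swap_apply_of_ne_of_ne, *, Ne.symm uv, Ne.symm uw, Ne.symm ux, Ne.symm uy, Ne.symm uc, Ne.symm ud,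
        Ne.symm vw, Ne.symm vx, Ne.symm vy, Ne.symm vc, Ne.symm vd, Ne.symm wx, Ne.symm wy, Ne.symm wc, Ne.symm wd]
    by_cases h2 : i = v
    · subst h2; simp [swap_apply_of_ne_of_ne, *, Ne.symm uv, Ne.symm uw, Ne.symm ux, Ne.symm uy, Ne.symm uc, Ne.symm ud,
        Ne.symm vw, Ne.symm vx, Ne.symm vy, Ne.symm vc, Ne.symm vd, Ne.symm wx, Ne.symm wy, Ne.symm wc, Ne.symm wd]
    by_cases h3 : i = w
    · subst h3; simp [swap_apply_of_ne_of_ne, *, Ne.symm uv, Ne.symm uw, Ne.symm ux, Ne.symm uy, Ne.symm uc, Ne.symm ud,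
        Ne.symm vw, Ne.symm vx, Ne.symm vy, Ne.symm vc, Ne.symm vd, Ne.symm wx, Ne.symm wy, Ne.symm wc, Ne.symm wd]
    by_cases h4 : i = x
    · subst h4; simp [swap_apply_of_ne_of_ne, *, Ne.symm uv, Ne.symm uw, Ne.symm ux, Ne.symm uy, Ne.symm xy, Ne.symm xc, Ne.symm xd,
        Ne.symm vw, Ne.symm vx, Ne.symm vy, Ne.symm yc, Ne.symm yd, Ne.symm wx, Ne.symm wy]
    by_cases h5 : i = y
    · subst h5; simp [swap_apply_of_ne_of_ne, *, Ne.symm uv, Ne.symm uw, Ne.symm ux, Ne.symm uy, Ne.symm xy, Ne.symm xc, Ne.symm xd,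
        Ne.symm vw, Ne.symm vx, Ne.symm vy, Ne.symm yc, Ne.symm yd, Ne.symm wx, Ne.symm wy]
    by_cases h6 : i = c
    · subst h6; simp [swap_apply_of_ne_of_ne, *, Ne.symm uc, Ne.symm ud, Ne.symm vc, Ne.symm vd, Ne.symm wc, Ne.symm wd,
        Ne.symm xc, Ne.symm xd, Ne.symm yc, Ne.symm yd, Ne.symm cd]
    by_cases h7 : i = d
    · subst h7; simp [swap_apply_of_ne_of_ne, *, Ne.symm uc, Ne.symm ud, Ne.symm vc, Ne.symm vd, Ne.symm wc, Ne.symm wd,
        Ne.symm xc, Ne.symm xd, Ne.symm yc, Ne.symm yd, Ne.symm cd]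
    simp [swap_apply_of_ne_of_ne, *]
  rw [e]
  exact isThreeCycle_swap_mul_swap_same uw uv (Ne.symm vw)

theorem swap_mul_swap_swap (u v w x y : Fin n) (hxu : x ≠ u) (hxv : x ≠ v) (hyu : y ≠ u) (hyv : y ≠ v) :
    (swap u v * swap x y) * (swap u w * swap x y) = swap u v * (swap x y * swap u w * (swap x y)⁻¹) := by
  rw [swap_inv]; group

theorem doubleSwap_mul_isThreeCycle (u v w x y : Fin n) (h : [u, v, w, x, y].Nodup) :
    ((swap u v * swap x y) * (swap u w * swap x y)).IsThreeCycle := by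
  simp only [List.nodup_cons, List.mem_cons, List.not_mem_nil, not_or, List.nodup_nil, and_true,
    or_false] at h
  obtain ⟨⟨uv, uw, ux, uy⟩, ⟨vw, vx, vy⟩, ⟨wx, wy⟩, xy, -⟩ := h
  rw [swap_mul_swap_swap u v w x y (Ne.symm ux) (Ne.symm vx) (Ne.symm uy) (Ne.symm vy), ← swap_apply_apply,
    swap_apply_of_ne_of_ne ux uy, swap_apply_of_ne_of_ne wx wy]
  exact isThreeCycle_swap_mul_swap_same uv uw vw

theorem exists_threeCycle {k : ℕ} (hk : 2 ≤ k) (hn : n = 2 ^ k + 1) (G : Subgroup (Perm (Fin n)))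
    (hG : ∀ σ ∈ dyadic n, Perm.sign σ = 1 → σ ∈ G) (g : Perm (Fin n)) (hg : g ∈ G)
    (g0 : g ⟨0, by have := Nat.one_le_two_pow (n := k); omega⟩ = ⟨0, by have := Nat.one_le_two_pow (n := k); omega⟩) (g1 : g ⟨1, by have := Nat.one_le_two_pow (n := k); omega⟩ = ⟨2 ^ k, by omega⟩) :
    ∃ c ∈ G, c.IsThreeCycle := by
  obtain ⟨m, hm⟩ : ∃ m, 2 ^ k = 4 * m ∧ 1 ≤ m := ⟨2 ^ (k - 2), by
    rw [show (4 : ℕ) = 2 ^ 2 from rfl, ← pow_add]; congr 1; omega, Nat.one_le_two_pow⟩
  let pt : (i : ℕ) → i < n → Fin n := fun i hi => ⟨i, hi⟩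
  -- double transpositions inside pairs
  have hpair : ∀ a a' b b' : Fin n, a.val / 2 = a'.val / 2 → b.val / 2 = b'.val / 2 → a ≠ a' → b ≠ b' →
      swap a a' * swap b b' ∈ G := by
    intro a a' b b' h1 h2 n1 n2
    refine hG _ (mul_mem (swap_mem h1) (swap_mem h2)) ?_
    rw [map_mul, Perm.sign_swap n1, Perm.sign_swap n2, Int.units_mul_self]
  let p0 := pt 0 (by omega)
  let p1 := pt 1 (by omega)
  let p2 := pt 2 (by omega)
  let p3 := pt 3 (by omega)
  let l := pt (2 ^ k) (by omega)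
  set a := g p2 with ha
  set b := g p3 with hb
  have hs : swap p0 l * swap a b ∈ G := by
    have h := mul_mem (mul_mem hg (hpair p0 p1 p2 p3 (by simp [p0, p1, pt]) (by simp [p2, p3, pt])
      (by simp [p0, p1, pt]) (by simp [p2, p3, pt]))) (inv_mem hg)
    have e : g * (swap p0 p1 * swap p2 p3) * g⁻¹ = (g * swap p0 p1 * g⁻¹) * (g * swap p2 p3 * g⁻¹) := by group
    rw [e, ← swap_apply_apply, ← swap_apply_apply, g0, g1] at h
    exact h
  have hab : a ≠ b := g.injective.ne (by simp [p2, p3, pt])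
  have a0 : a ≠ p0 := fun h => by
    have := g.injective (h.trans g0.symm); simp [p2, pt] at this
  have al : a ≠ l := fun h => by
    have := g.injective (h.trans g1.symm); simp [p2, pt] at this
  have b0 : b ≠ p0 := fun h => by
    have := g.injective (h.trans g0.symm); simp [p3, pt] at this
  have bl : b ≠ l := fun h => by
    have := g.injective (h.trans g1.symm); simp [p3, pt] at this
  clear_value a b
  simp only [ne_eq, Fin.ext_iff] at hab a0 al b0 bl
  dsimp only [p0, l, pt] at a0 al b0 bl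
  by_cases h5 : m = 1
  · -- degree five
    let c : Fin n := pt (6 - a.val - b.val) (by omega)
    have hc : c.val = 6 - a.val - b.val := rfl
    have ht : swap p0 c * swap a b ∈ G := by
      refine hG _ (Cfsg.Agent.Lib.SymSylow.Crit.crit_iff.2 ?_) ?_
      · intro l' i j e
        have hi := i.isLt
        have hj := j.isLt
        simp only [Perm.mul_apply, swap_apply_def, Fin.ext_iff, apply_ite Fin.val, hc, p0, pt]
        rcases l' with _ | _ | l''
        · simp only [pow_zero, Nat.div_one] at e ⊢; rw [e]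
        · simp only [zero_add, pow_one] at e ⊢
          split_ifs <;> omega
        · have h4 : 4 ≤ 2 ^ (l'' + 1 + 1) := by
            rw [pow_succ, pow_succ]; have := Nat.one_le_two_pow (n := l''); omega
          rcases Nat.lt_or_ge (2 ^ (l'' + 1 + 1)) 8 with h8 | h8
          · have h24 : 2 ^ (l'' + 1 + 1) = 4 := by
              rw [pow_succ, pow_succ] at h4 h8 ⊢; omega
            rw [h24] at e ⊢
            split_ifs <;> omega
          · rw [Nat.div_eq_of_lt, Nat.div_eq_of_lt] <;> (split_ifs <;> omega)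
      · rw [map_mul, Perm.sign_swap, Perm.sign_swap, Int.units_mul_self]
        · exact fun h => hab (Fin.ext_iff.1 h)
        · simp [Fin.ext_iff, p0, hc, pt]; omega
    refine ⟨_, mul_mem hs ht, doubleSwap_mul_isThreeCycle p0 l c a b ?_⟩
    simp [List.nodup_cons, Fin.ext_iff, p0, l, hc, pt]
    omega
  · by_cases h1 : a.val = 1 ∨ b.val = 1
    · -- the support of the conjugate contains 1
      obtain ⟨q, hq0, hql, hq1, hs'⟩ : ∃ q : Fin n, q.val ≠ 0 ∧ q.val ≠ 2 ^ k ∧ q.val ≠ 1 ∧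
          swap p1 q * swap p0 l ∈ G := by
        have hcomm : ∀ x y : Fin n, x.val ≠ 0 → x.val ≠ 2 ^ k → y.val ≠ 0 → y.val ≠ 2 ^ k →
            swap p0 l * swap x y = swap x y * swap p0 l := by
          intro x y x0 xl y0 yl
          conv_rhs => rw [show swap x y * swap p0 l = swap x y * swap p0 l * (swap x y)⁻¹ * swap x y by group,
            ← swap_apply_apply]
          rw [swap_apply_of_ne_of_ne (by simp [Fin.ext_iff, p0, pt]; omega) (by simp [Fin.ext_iff, p0, pt]; omega),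
            swap_apply_of_ne_of_ne (by simp [Fin.ext_iff, l, pt]; omega) (by simp [Fin.ext_iff, l, pt]; omega)]
        rcases h1 with h1 | h1
        · refine ⟨b, b0, bl, by omega, ?_⟩
          rw [hcomm a b a0 al b0 bl] at hs
          rwa [show a = p1 from Fin.ext h1] at hs
        · refine ⟨a, a0, al, by omega, ?_⟩
          rw [hcomm a b a0 al b0 bl, swap_comm a b] at hs
          rwa [show b = p1 from Fin.ext h1] at hs
      let q' := pt (4 * (q.val / 2) + 1 - q.val) (by have := q.isLt; omega)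
      let v := if q.val / 2 = 1 then 2 else 1
      let c := pt (2 * v) (by simp only [v]; split_ifs <;> omega)
      let d := pt (2 * v + 1) (by simp only [v]; split_ifs <;> omega)
      have ht : swap q q' * swap c d ∈ G := hpair q q' c d (by simp [q', pt]; omega) (by simp [c, d, pt]; omega)
        (by simp [q', pt, Fin.ext_iff]; omega) (by simp [c, d, pt])
      rw [swap_comm p1 q] at hs'
      refine ⟨_, mul_mem (mul_mem hs' ht) (mul_mem hs' ht), doubleSwap_sq_isThreeCycle q p1 q' p0 l c d ?_⟩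
      have hqlt := q.isLt
      simp [List.nodup_cons, Fin.ext_iff, p0, p1, l, q', c, d, pt, v]
      split_ifs <;> simp only [not_false_eq_true, true_and, and_true] <;> omega
    · -- 1 is outside the support of the conjugate
      let v := if a.val / 2 ≠ 1 ∧ b.val / 2 ≠ 1 then 1 else if a.val / 2 ≠ 2 ∧ b.val / 2 ≠ 2 then 2 else 3
      let c := pt (2 * v) (by simp only [v]; split_ifs <;> omega)
      let d := pt (2 * v + 1) (by simp only [v]; split_ifs <;> omega)
      have ht : swap p0 p1 * swap c d ∈ G := hpair p0 p1 c d (by simp [p0, p1, pt]) (by simp [c, d, pt]; omega)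
        (by simp [p0, p1, pt]) (by simp [c, d, pt])
      refine ⟨_, mul_mem (mul_mem hs ht) (mul_mem hs ht), doubleSwap_sq_isThreeCycle p0 l p1 a b c d ?_⟩
      simp [List.nodup_cons, Fin.ext_iff, p0, p1, l, c, d, pt, v]
      split_ifs <;> simp only [not_false_eq_true, true_and, and_true] <;> omega

/-- An overgroup of the even dyadic subgroup either fixes the odd point or contains `A_n`. -/
theorem fix_or_alt_le {k : ℕ} (hk : 2 ≤ k) (hn : n = 2 ^ k + 1) (G : Subgroup (Perm (Fin n)))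
    (hG : ∀ σ ∈ dyadic n, Perm.sign σ = 1 → σ ∈ G) (l : Fin n) (hl : l.val = 2 ^ k) :
    (∀ g ∈ G, g l = l) ∨ alternatingGroup (Fin n) ≤ G := by
  classical
  by_cases hmv : ∀ g ∈ G, g l = l
  · exact Or.inl hmv
  right
  push Not at hmv
  obtain ⟨g₁, hg₁, hne⟩ := hmv
  obtain ⟨m, hm⟩ : ∃ m, 2 ^ k = 4 * m ∧ 1 ≤ m := ⟨2 ^ (k - 2), by
    rw [show (4 : ℕ) = 2 ^ 2 from rfl, ← pow_add]; congr 1; omega, Nat.one_le_two_pow⟩
  -- transitivity on the other points
  have htr : ∀ i j : Fin n, i ≠ l → j ≠ l → ∃ h ∈ G, h l = l ∧ h i = j := by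
    intro i j hi hj
    have hi' : i.val < 2 ^ k := by
      have := i.isLt; have : i.val ≠ l.val := fun h => hi (Fin.ext h); omega
    have hj' : j.val < 2 ^ k := by
      have := j.isLt; have : j.val ≠ l.val := fun h => hj (Fin.ext h); omega
    have hd : i.val ^^^ j.val < 2 ^ k := Nat.xor_lt_two_pow hi' hj'
    have hone : n / 2 ^ k = 1 := Nat.div_eq_of_lt_le (by omega) (by omega)
    set h0 : Perm (Fin n) := Cfsg.Agent.Lib.SymSylow.Crit.xorOn k (fun _ => true) (i.val ^^^ j.val)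
    have h0i : h0 i = j := Fin.ext (by
      rw [Cfsg.Agent.Lib.SymSylow.Crit.xorOn_apply_pos hd (by rw [Nat.div_eq_of_lt hi', hone]; exact one_pos) rfl,
        ← Nat.xor_assoc, Nat.xor_self, Nat.zero_xor])
    have h0l : h0 l = l := Cfsg.Agent.Lib.SymSylow.Crit.xorOn_apply_neg (by
      rw [hl, Nat.div_self (by omega), hone]; simp)
    have h0d : h0 ∈ dyadic n := Cfsg.Agent.Lib.SymSylow.Crit.xorOn_mem _ _ _
    rcases Int.units_eq_one_or (Perm.sign h0) with hs | hs
    · exact ⟨h0, hG _ h0d hs, h0l, h0i⟩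
    · let u : Fin n := ⟨if i.val / 2 = 0 then 2 else 0, by split_ifs <;> omega⟩
      let u' : Fin n := ⟨if i.val / 2 = 0 then 3 else 1, by split_ifs <;> omega⟩
      have huu : u ≠ u' := by simp [u, u']; split_ifs <;> simp
      refine ⟨h0 * swap u u', hG _ (mul_mem h0d (swap_mem (by simp only [u, u']; split_ifs <;> omega)))
        (by rw [map_mul, hs, Perm.sign_swap huu, Int.units_mul_self]), ?_, ?_⟩
      · rw [Perm.mul_apply, swap_apply_of_ne_of_ne (by simp [u, Fin.ext_iff]; split_ifs <;> omega)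
          (by simp [u', Fin.ext_iff]; split_ifs <;> omega), h0l]
      · rw [Perm.mul_apply, swap_apply_of_ne_of_ne (by simp [u, Fin.ext_iff]; split_ifs <;> omega)
          (by simp [u', Fin.ext_iff]; split_ifs <;> omega), h0i]
  have htrans : ∀ i : Fin n, ∃ h ∈ G, h i = l := by
    intro i
    by_cases hi : i = l
    · exact ⟨1, one_mem G, hi⟩
    · obtain ⟨h, hh, -, h2⟩ := htr i (g₁ l) hi hne
      exact ⟨g₁⁻¹ * h, mul_mem (inv_mem hg₁) hh, by simp [h2]⟩
  let p0 : Fin n := ⟨0, by omega⟩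
  let p1 : Fin n := ⟨1, by omega⟩
  have hp0 : p0 ≠ l := by simp [p0, Fin.ext_iff, hl]; omega
  have h2 : ∀ a b : Fin n, a ≠ b → ∃ h ∈ G, h a = l ∧ h b = p0 := by
    intro a b hab
    obtain ⟨h, hh, ha⟩ := htrans a
    obtain ⟨h', hh', hl', hb⟩ := htr (h b) p0 (fun e => hab (h.injective (ha.trans e.symm))) hp0
    exact ⟨h' * h, mul_mem hh' hh, by simp [ha, hl'], by simp [hb]⟩
  have hmt : MulAction.IsMultiplyPretransitive G (Fin n) 2 := by
    rw [MulAction.is_two_pretransitive_iff]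
    intro a b c d hab hcd
    obtain ⟨h, hh, h1, h2'⟩ := h2 a b hab
    obtain ⟨h', hh', h1', h2''⟩ := h2 c d hcd
    refine ⟨⟨h'⁻¹ * h, mul_mem (inv_mem hh') hh⟩, ?_, ?_⟩
    · show h'⁻¹ (h a) = c
      rw [h1, ← h1']; simp
    · show h'⁻¹ (h b) = d
      rw [h2', ← h2'']; simp
  have hpp : MulAction.IsPreprimitive G (Fin n) := MulAction.isPreprimitive_of_is_two_pretransitive hmt
  obtain ⟨h, hh, ha, hb⟩ := h2 p1 p0 (by simp [p0, p1])
  obtain ⟨c, hc, hc3⟩ := exists_threeCycle hk hn G hG h hh hb (ha.trans (Fin.ext hl))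
  exact alternatingGroup_le_of_isPreprimitive_of_isThreeCycle_mem hpp hc3 hc

end Cfsg.Agent.Lib.AltSylowMax
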